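import Groth.Agent.Lib.FtPts3.Basic
import Groth.Agent.Lib.AlgSpace.LocP
import Groth.Agent.Lib.AlgSpace.Points
import Groth.Agent.Lib.AlgSpace.PointsBC
import Groth.Agent.Lib.AlgSpDecent.Basic
import Groth.Agent.Lib.AlgSpDecent.Jacobson

/-!
# Finite type points of algebraic spaces
-/

universe u

set_option backward.isDefEq.respectTransparency.types false

open CategoryTheory CategoryTheory.Limits AlgebraicGeometry AlgSp Opposite
open Groth.Agent.AlgSpace Groth.Agent.AlgSpDecent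

namespace Groth.Agent.FtPts14

variable {S : Scheme.{u}}

/-- Finite type points. -/
def FtPt {F : Sp S} (x : Points F) : Prop :=
  ∃ (k : Type u) (_ : Field k) (str : Spec (CommRingCat.of k) ⟶ S) (ξ : (yon S).obj (Over.mk str) ⟶ F),
    LocP @LocallyOfFiniteType ξ ∧ Points.ofPt ξ (IsLocalRing.closedPoint k) = x

/-- Images of finite type points of charts are finite type points. -/
theorem ftPt_ofPt {F : Sp S} (hF : IsAlgSpace F) {U : Over S} {g : (yon S).obj U ⟶ F}
    (hg : LocP @LocallyOfFiniteType g) (u : U.left)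
    [LocallyOfFiniteType (U.left.fromSpecResidueField u)] : FtPt (Points.ofPt g u) := by
  let j : Over.mk (U.left.fromSpecResidueField u ≫ U.hom) ⟶ U :=
    Over.homMk (U.left.fromSpecResidueField u) rfl
  refine ⟨U.left.residueField u, inferInstance, _, (yon S).map j ≫ g,
    locP_comp (IsAlgSpace.yon_obj _) (IsAlgSpace.yon_obj _) hF
      (locP_of_repWith (IsAlgSpace.yon_obj _) ((repWith_yon_map_iff _ _).2 ‹_›)) hg, ?_⟩
  rw [ofPt_map_comp]
  exact congrArg (Points.ofPt g) (U.left.fromSpecResidueField_apply u _)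

/-- Finite type points of an étale chart lie over finite type points. -/
theorem exists_chart_point {F : Sp S} (hF : IsAlgSpace F) {x : Points F} (hx : FtPt x)
    {V : Over S} {φ : (yon S).obj V ⟶ F} (hφe : RepWith @Etale φ) (hφs : RepWith @Surjective φ) :
    ∃ v : V.left, Points.ofPt φ v = x ∧ LocallyOfFiniteType (V.left.fromSpecResidueField v) := by
  obtain ⟨k, _, str, ξ, hξ, rfl⟩ := hx
  have sq := hφe.1.isPullback ξ
  have : Surjective (hφe.1.snd ξ).left := hφs.2 ξ _ _ sq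
  obtain ⟨p, hp⟩ := (yon S).map_surjective (hφe.1.fst ξ)
  have hlft : LocallyOfFiniteType p.left := hξ ((yon S).map (hφe.1.snd ξ)) φ p
    ((repWith_yon_map_iff _ _).2 (hφe.2 ξ _ _ sq)) hφe (by rw [hp]; exact sq.w.symm)
  obtain ⟨t, ht⟩ := (hφe.1.snd ξ).left.surjective (IsLocalRing.closedPoint k)
  obtain ⟨z, -, hz⟩ := FtPts3.exists_mem_of_isLocallyClosed (S := (hφe.1.pullback ξ).left)
    isOpen_univ.isLocallyClosed ⟨t, trivial⟩
  refine ⟨p.left z, ?_, FtPts3.mem_ftPts_map p.left z⟩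
  rw [← ofPt_map_comp p φ z, hp, sq.w, ofPt_map_comp]
  congr 1
  exact Subsingleton.elim (α := PrimeSpectrum k) _ _

theorem ftPt_iff_chart {F : Sp S} (hF : IsAlgSpace F) (x : Points F) :
    FtPt x ↔ ∃ (U : Over S) (φ : (yon S).obj U ⟶ F) (u : ↥U.left), RepWith @Etale φ ∧
      IsClosed ({u} : Set ↥U.left) ∧ Points.ofPt φ u = x := by
  constructor
  · intro hx
    obtain ⟨V, φ, hφe, hφs⟩ := hF.atlas
    obtain ⟨v, rfl, hv⟩ := exists_chart_point hF hx hφe hφs
    obtain ⟨W, -, hvW, hc⟩ := (FtPts3.mem_ftPts_iff v).1 hv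
    exact ⟨_, (yon S).map (Over.homMk W.ι rfl : Over.mk (W.ι ≫ V.hom) ⟶ V) ≫ φ, ⟨v, hvW⟩,
      repWith_comp ((repWith_yon_map_iff _ _).2 (inferInstanceAs (Etale W.ι))) hφe, hc,
      ofPt_map_comp _ _ _⟩
  · rintro ⟨U, φ, u, hφe, hu, rfl⟩
    have : IsClosedImmersion (U.left.fromSpecResidueField u) :=
      isClosed_singleton_iff_isClosedImmersion.mp hu
    exact ftPt_ofPt hF (locP_lft_of_repWith_etale hφe) u

/-- Nonempty locally closed sets contain finite type points. -/
theorem exists_ftPt_mem {F : Sp S} (hF : IsAlgSpace F) {T : Set (Points F)} (hT : IsLocallyClosed T)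
    (hne : T.Nonempty) : ∃ x ∈ T, FtPt x := by
  obtain ⟨V, φ, hφe, hφs⟩ := hF.atlas
  obtain ⟨x, hx⟩ := hne
  obtain ⟨v, rfl⟩ := surjective_ofPt hφs x
  obtain ⟨z, hz, hzf⟩ := FtPts3.exists_mem_of_isLocallyClosed
    (hT.preimage (Points.continuous_ofPt φ)) ⟨v, hx⟩
  exact ⟨_, hz, ftPt_ofPt hF (locP_lft_of_repWith_etale hφe) z⟩

/-- Finite type points lift along surjective morphisms locally of finite type. -/
theorem exists_ftPt_over {X Y : Sp S} (hX : IsAlgSpace X) (hY : IsAlgSpace Y) {f : X ⟶ Y}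
    (hf : LocP @LocallyOfFiniteType f) (hs : IsSurjectiveMor f) {y : Points Y} (hy : FtPt y) :
    ∃ x, Points.map f x = y ∧ FtPt x := by
  obtain ⟨V, φ, hφe, hφs⟩ := hY.atlas
  obtain ⟨v, rfl, hv⟩ := exists_chart_point hY hy hφe hφs
  have sq := IsPullback.of_hasPullback f φ
  obtain ⟨A, r, hre, hrs⟩ := (isAlgSpace_pullback hY hX (IsAlgSpace.yon_obj V) sq).atlas
  obtain ⟨c, hc⟩ := (yon S).map_surjective (r ≫ pullback.snd f φ)
  have hr : LocP @LocallyOfFiniteType (r ≫ pullback.fst f φ) := locP_lft_of_repWith_etale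
    (repWith_comp hre (repWith_of_isPullback sq.flip hφe))
  have hlc : IsLocallyClosed ({v} : Set V.left) := by
    obtain ⟨W, -, hvW, hcl⟩ := (FtPts3.mem_ftPts_iff v).1 hv
    have := hcl.isLocallyClosed.image W.ι.isEmbedding.isInducing
      W.ι.isOpenEmbedding.isOpen_range.isLocallyClosed
    rwa [Set.image_singleton] at this
  obtain ⟨x, hx⟩ := hs (Points.ofPt φ v)
  obtain ⟨w, -, hw⟩ := exists_point_lift sq x (Points.ofScheme V v)
    (by rw [← Points.ofPt_eq_map_ofScheme]; exact hx)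
  obtain ⟨a, rfl⟩ := surjective_ofPt hrs w
  have ha : c.left a = v := by
    rw [Points.map_ofPt, ← hc, ofPt_map_eq] at hw
    exact (Points.schemeEquiv V).injective hw
  obtain ⟨z, hz, hzf⟩ := FtPts3.exists_mem_of_isLocallyClosed (hlc.preimage c.left.continuous) ⟨a, ha⟩
  refine ⟨_, ?_, ftPt_ofPt hX hr z⟩
  rw [Points.map_ofPt, Category.assoc, pullback.condition, ← Category.assoc, ← hc, ofPt_map_comp]
  exact congrArg (Points.ofPt φ) hz

end Groth.Agent.FtPts14
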